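import Mathlib
import Cfsg.Agent.Lib.Suzuki.Classes
import Cfsg.Agent.Lib.Char.More
import Cfsg.Agent.Lib.Char.InduceChar

/-!
# Generalised characters induced from self-centralising TI subgroups
-/

set_option autoImplicit false
set_option linter.unusedSectionVars false

namespace H14.Sz

open Cfsg
open scoped ComplexConjugate

variable {G : Type*} [Group G] [Fintype G]

/-- The generalised character induced from `1 - μ`. -/
noncomputable def theta (K : Subgroup G) (μ : K →* ℂˣ) : G → ℂ :=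
  indFun K (fun a => 1 - (μ a : ℂ))

/-- The conjugate of a linear character under an element of the normaliser. -/
def cj {K : Subgroup G} (n : Subgroup.normalizer (K : Set G)) (μ : K →* ℂˣ) : K →* ℂˣ :=
  μ.comp (K.normalizerMonoidHom n).toMonoidHom

theorem cj_apply {K : Subgroup G} (n : Subgroup.normalizer (K : Set G)) (μ : K →* ℂˣ) (a : K) :
    cj n μ a = μ ⟨n * a * (n : G)⁻¹, (Subgroup.mem_normalizer_iff.1 n.2 a).1 a.2⟩ := rfl

theorem cj_eq_one {K : Subgroup G} {n : Subgroup.normalizer (K : Set G)} {μ : K →* ℂˣ}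
    (h : cj n μ = 1) : μ = 1 := by
  ext1 a
  have := DFunLike.congr_fun h ((K.normalizerMonoidHom n).symm a)
  simpa [cj] using this

theorem theta_isGen (K : Subgroup G) (μ : K →* ℂˣ) : IsGeneralizedCharacter G (theta K μ) :=
  H7.isGeneralizedCharacter_indFun K (H6.isGen_sub H6.isGen_one (H6.char_isGen (H6.isCharacter_hom μ)))

theorem theta_class (K : Subgroup G) (μ : K →* ℂˣ) : IsClassFunction G (theta K μ) :=
  H7.isClassFunction_indFun K _

theorem theta_one (K : Subgroup G) (μ : K →* ℂˣ) : theta K μ 1 = 0 := by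
  rw [theta, H7.indFun_one]; simp

theorem theta_one_hom (K : Subgroup G) : theta K 1 = 0 := by
  rw [theta, ← H7.indFun_zero K]; congr 1; ext; simp

theorem theta_eq_zero {K : Subgroup G} (μ : K →* ℂˣ) {g : G}
    (h : ∀ x : G, x⁻¹ * g * x ∈ K → g = 1) : theta K μ g = 0 := by
  apply H7.indFun_eq_zero
  intro x hx
  obtain rfl := h x hx
  have : (⟨x⁻¹ * 1 * x, hx⟩ : K) = 1 := Subtype.ext (by simp)
  rw [this]; simp

theorem inner_theta {K : Subgroup G} [Fintype K] (μ : K →* ℂˣ) {χ : G → ℂ}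
    (hχ : IsClassFunction G χ) :
    classInner χ (theta K μ) = classInner (fun a : K => χ a) (fun a => 1 - (μ a : ℂ)) :=
  H7.classInner_indFun_right K _ hχ

theorem inner_one_sub {K : Type*} [Group K] [Fintype K] (f : K → ℂ) (μ : K →* ℂˣ) :
    classInner f (fun a => 1 - (μ a : ℂ)) =
      classInner f (fun _ => 1) - classInner f (fun a => (μ a : ℂ)) :=
  H6.classInner_sub_right f (fun _ => 1) (fun a => (μ a : ℂ))

theorem inner_one_hom {K : Type*} [Group K] [Fintype K] {μ : K →* ℂˣ} (hμ : μ ≠ 1) :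
    classInner (fun _ : K => (1 : ℂ)) (fun a => (μ a : ℂ)) = 0 := by
  classical
  have := H6.hom_inner (1 : K →* ℂˣ) μ
  rw [if_neg hμ.symm] at this
  exact this

theorem inner_theta_of_const {K : Subgroup G} {μ : K →* ℂˣ} (hμ : μ ≠ 1) {χ : G → ℂ}
    (hχ : IsClassFunction G χ) {δ : ℂ} (h : ∀ a ∈ K, a ≠ 1 → χ a = δ) :
    classInner χ (theta K μ) = δ := by
  classical
  haveI := Fintype.ofFinite K
  rw [inner_theta μ hχ]
  have : classInner (fun a : K => χ a) (fun a => 1 - (μ a : ℂ)) =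
      classInner (δ • fun _ : K => (1 : ℂ)) (fun a => 1 - (μ a : ℂ)) := by
    rw [H6.classInner_def, H6.classInner_def]
    congr 1
    refine Finset.sum_congr rfl fun a _ => ?_
    by_cases ha : a = 1
    · simp [ha]
    · rw [h a a.2 (fun e => ha (Subtype.ext e))]; simp
  rw [this, H6.classInner_smul_left, inner_one_sub, H6.classInner_one_one, inner_one_hom hμ]
  simp

theorem eq_of_inner_theta {K : Subgroup G} [Fintype K] (hc : ∀ a b : K, a * b = b * a)
    {χ : G → ℂ} (hχ : IsClassFunction G χ) {δ : ℂ}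
    (h : ∀ μ : K →* ℂˣ, μ ≠ 1 → classInner χ (theta K μ) = δ) :
    (fun a : K => χ a) = (classInner (fun a : K => χ a) (fun _ => 1) - δ) • H6.regChar K +
      δ • fun _ => 1 := by
  apply H6.classFun_ext (H7.isClassFunction_of_comm hc _) (H7.isClassFunction_of_comm hc _)
  intro ψ hψ
  obtain ⟨μ, rfl⟩ := H6.irr_eq_hom_of_comm hc hψ
  rw [H6.classInner_add_left, H6.classInner_smul_left, H6.classInner_smul_left,
    H6.classInner_regChar_left]
  by_cases hμ : μ = 1
  · subst hμ
    simp only [MonoidHom.one_apply, Units.val_one, map_one, H6.classInner_one_one]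
    ring
  · have := h μ hμ
    rw [inner_theta μ hχ, inner_one_sub] at this
    rw [inner_one_hom hμ, ← this]
    simp

theorem val_of_inner_theta {K : Subgroup G} (hc : ∀ a b : K, a * b = b * a)
    {χ : G → ℂ} (hχ : IsClassFunction G χ) {δ : ℂ}
    (h : ∀ μ : K →* ℂˣ, μ ≠ 1 → classInner χ (theta K μ) = δ) {a : G} (ha : a ∈ K) (h1 : a ≠ 1) :
    χ a = δ := by
  haveI := Fintype.ofFinite K
  have := congrFun (eq_of_inner_theta hc hχ h) ⟨a, ha⟩
  rw [Pi.add_apply, Pi.smul_apply, H6.regChar_ne (fun e => h1 (congrArg Subtype.val e))] at this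
  simpa using this

theorem dvd_of_vanish {K : Subgroup G} {χ : G → ℂ} (hχ : IsGeneralizedCharacter G χ)
    (h : ∀ a ∈ K, a ≠ 1 → χ a = 0) : ∃ n : ℤ, χ 1 = n * Nat.card K := by
  classical
  haveI := Fintype.ofFinite K
  obtain ⟨n, hn⟩ := H6.gen_inner_int (H6.isGen_restrict K hχ) H6.isGen_one
  refine ⟨n, ?_⟩
  rw [← hn, mul_comm, H6.card_mul_classInner, Finset.sum_eq_single (1 : K)]
  · simp
  · intro a _ ha
    rw [h a a.2 (fun e => ha (Subtype.ext e)), zero_mul]
  · simp

theorem sum_eq_sum_subgroup (N : Subgroup G) [Fintype N] {f : G → ℂ} (h : ∀ x, x ∉ N → f x = 0) :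
    ∑ x, f x = ∑ n : N, f n := by
  rw [← H7.sum_extendByZero N (fun n => f n)]
  refine Finset.sum_congr rfl fun x _ => ?_
  by_cases hx : x ∈ N
  · rw [H7.extendByZero_of_mem _ _ hx]
  · rw [H7.extendByZero_of_not_mem _ _ hx, h x hx]

namespace SelfCent

variable {K : Subgroup G} (hK : SelfCent K)
include hK

theorem comm' (a b : K) : a * b = b * a := Subtype.ext (hK.comm a.2 b.2)

theorem theta_apply [Fintype (Subgroup.normalizer (K : Set G))] (μ : K →* ℂˣ) (a : K) :
    theta K μ a = (Nat.card K : ℂ)⁻¹ *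
      ∑ n : Subgroup.normalizer (K : Set G), (1 - (cj n μ a : ℂ)) := by
  classical
  by_cases ha : a = 1
  · subst ha
    rw [OneMemClass.coe_one, theta_one]; simp
  rw [theta, H7.indFun_apply']
  congr 1
  rw [sum_eq_sum_subgroup (Subgroup.normalizer (K : Set G))]
  · refine Finset.sum_congr rfl fun n _ => ?_
    rw [H7.extendByZero_of_mem _ _ ((Subgroup.mem_normalizer_iff.1 n.2 a).1 a.2), cj_apply]
  · intro x hx
    exact H7.extendByZero_of_not_mem _ _ fun h =>
      hx (hK.TI a.2 (fun e => ha (Subtype.ext e)) h)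

theorem mem_of_cj_eq {n : Subgroup.normalizer (K : Set G)} {μ : K →* ℂˣ} (hμ : μ ≠ 1)
    (h : cj n μ = μ) : (n : G) ∈ K := by
  by_contra hn
  have hi : Function.Injective (fun a : K => K.normalizerMonoidHom n a * a⁻¹) := by
    intro a b hab
    by_contra hne
    have e : (n : G) * a * (n : G)⁻¹ * (a : G)⁻¹ = n * b * (n : G)⁻¹ * (b : G)⁻¹ :=
      congrArg Subtype.val hab
    have hb := (Subgroup.mem_normalizer_iff.1 n.2 b).1 b.2
    have ha := (Subgroup.mem_normalizer_iff.1 n.2 a).1 a.2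
    refine hn (hK.mem_of_commute (K.mul_mem (K.inv_mem b.2) a.2)
      (fun e => hne (Subtype.ext (inv_mul_eq_one.1 e).symm)) ?_)
    calc (n : G) * ((b : G)⁻¹ * a) = ((n : G) * b * (n : G)⁻¹)⁻¹ *
          (n * a * (n : G)⁻¹ * (a : G)⁻¹) * a * n := by group
      _ = (b : G)⁻¹ * a * n := by rw [e]; group
  apply hμ
  ext1 b
  obtain ⟨a, rfl⟩ := Finite.injective_iff_surjective.1 hi b
  have := DFunLike.congr_fun h a
  rw [MonoidHom.one_apply, map_mul, map_inv, mul_inv_eq_one]
  exact this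

theorem cj_eq_of_mem {n : Subgroup.normalizer (K : Set G)} (hn : (n : G) ∈ K) (μ : K →* ℂˣ) :
    cj n μ = μ := by
  ext1 a
  rw [cj_apply]
  congr 1
  exact Subtype.ext (by simp [hK.comm hn a.2])

theorem inner_theta_theta {μ ν : K →* ℂˣ} (hμ : μ ≠ 1) (hν : ν ≠ 1) :
    classInner (theta K ν) (theta K μ) = (Nat.card K : ℂ)⁻¹ *
      (Nat.card (Subgroup.normalizer (K : Set G)) +
        Nat.card {n : Subgroup.normalizer (K : Set G) // cj n ν = μ}) := by
  classical
  haveI := Fintype.ofFinite K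
  haveI := Fintype.ofFinite (Subgroup.normalizer (K : Set G))
  rw [inner_theta μ (theta_class K ν)]
  have e : (fun a : K => theta K ν a) = (Nat.card K : ℂ)⁻¹ •
      ∑ n : Subgroup.normalizer (K : Set G), fun a => (1 - (cj n ν a : ℂ)) := by
    ext a; rw [hK.theta_apply]; simp
  rw [e, H6.classInner_smul_left, H6.classInner_sum_left]
  congr 1
  have e2 : ∀ n : Subgroup.normalizer (K : Set G),
      classInner (fun a => (1 - (cj n ν a : ℂ))) (fun a => 1 - (μ a : ℂ)) =
        1 + if cj n ν = μ then 1 else 0 := by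
    intro n
    have h1 := H6.classInner_sub_left (fun _ : K => (1 : ℂ)) (fun a => (cj n ν a : ℂ))
      (fun a => 1 - (μ a : ℂ))
    refine h1.trans ?_
    rw [inner_one_sub, inner_one_sub, H6.classInner_one_one, inner_one_hom hμ, H6.hom_inner,
      H6.classInner_eq_zero_comm.1 (inner_one_hom fun e => hν (cj_eq_one e))]
    ring
  rw [Finset.sum_congr rfl fun n _ => e2 n, Finset.sum_add_distrib, Finset.sum_boole,
    Nat.card_eq_fintype_card, Nat.card_eq_fintype_card,
    Fintype.card_subtype (fun n => cj n ν = μ)]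
  simp

variable {e : ℕ} (he : Nat.card (Subgroup.normalizer (K : Set G)) = e * Nat.card K)
include he

theorem inner_theta_self {μ : K →* ℂˣ} (hμ : μ ≠ 1) :
    classInner (theta K μ) (theta K μ) = e + 1 := by
  have h0 : (Nat.card K : ℂ) ≠ 0 := Nat.cast_ne_zero.2 hK.odd.pos.ne'
  have h1 : Nat.card {n : Subgroup.normalizer (K : Set G) // cj n μ = μ} = Nat.card K := by
    rw [← Nat.card_congr (Subgroup.subgroupOfEquivOfLe (H := K) Subgroup.le_normalizer).toEquiv]
    exact Nat.card_congr (Equiv.subtypeEquivRight fun n =>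
      ⟨hK.mem_of_cj_eq hμ, fun h => hK.cj_eq_of_mem h μ⟩)
  rw [hK.inner_theta_theta hμ hμ, h1, he]
  push_cast
  field_simp

theorem le_inner_theta {μ ν : K →* ℂˣ} (hμ : μ ≠ 1) (hν : ν ≠ 1) :
    (e : ℝ) ≤ (classInner (theta K ν) (theta K μ)).re := by
  have h0 : (0 : ℝ) < Nat.card K := Nat.cast_pos.2 hK.odd.pos
  rw [hK.inner_theta_theta hμ hν, he]
  have : ((Nat.card K : ℂ)⁻¹ * (((e * Nat.card K : ℕ) : ℂ) +
      (Nat.card {n : Subgroup.normalizer (K : Set G) // cj n ν = μ} : ℂ))) =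
      (((Nat.card K : ℝ)⁻¹ * (e * Nat.card K +
        Nat.card {n : Subgroup.normalizer (K : Set G) // cj n ν = μ}) : ℝ) : ℂ) := by
    push_cast; rfl
  rw [this, Complex.ofReal_re, mul_add, mul_comm (e : ℝ), inv_mul_cancel_left₀ h0.ne']
  exact le_add_of_nonneg_right (by positivity)

theorem norm_theta_sub_le (μ : K →* ℂˣ) {a : G} (ha : a ∈ K) : ‖theta K μ a - e‖ ≤ e := by
  haveI := Fintype.ofFinite (Subgroup.normalizer (K : Set G))
  have h0 : (0 : ℝ) < Nat.card K := Nat.cast_pos.2 hK.odd.pos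
  have h0' : (Nat.card K : ℂ) ≠ 0 := Nat.cast_ne_zero.2 hK.odd.pos.ne'
  have h1 := hK.theta_apply μ ⟨a, ha⟩
  rw [Finset.sum_sub_distrib, Finset.sum_const, Finset.card_univ, ← Nat.card_eq_fintype_card,
    he] at h1
  have h2 : theta K μ a - e = -((Nat.card K : ℂ)⁻¹ *
      ∑ n : Subgroup.normalizer (K : Set G), (cj n μ ⟨a, ha⟩ : ℂ)) := by
    rw [h1]; simp only [nsmul_eq_mul, mul_one, Nat.cast_mul]; field_simp; ring
  rw [h2, norm_neg, norm_mul, norm_inv, Complex.norm_natCast, inv_mul_le_iff₀ h0]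
  refine (norm_sum_le _ _).trans ?_
  have h3 : ∀ n : Subgroup.normalizer (K : Set G), ‖(cj n μ ⟨a, ha⟩ : ℂ)‖ = 1 := fun n =>
    Complex.norm_eq_one_of_pow_eq_one (n := Nat.card K) (by
      rw [← Units.val_pow_eq_pow_val, ← map_pow, pow_card_eq_one', map_one, Units.val_one])
      hK.odd.pos.ne'
  rw [Finset.sum_congr rfl fun n _ => h3 n, Finset.sum_const, Finset.card_univ,
    ← Nat.card_eq_fintype_card, he]
  simp [mul_comm]

omit he in
theorem conj_theta {t : G} (ht : t ∈ Subgroup.normalizer (K : Set G)) (h2 : t * t = 1)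
    (h1 : t ≠ 1) (μ : K →* ℂˣ) (g : G) : conj (theta K μ g) = theta K μ g := by
  rw [← H6.gen_inv (theta_isGen K μ)]
  by_cases h : ∃ x : G, x⁻¹ * g * x ∈ K
  · obtain ⟨x, hx⟩ := h
    rw [← H6.classFun_conj' (theta_class K μ) g x, ← H6.classFun_conj' (theta_class K μ) g⁻¹ x,
      ← theta_class K μ (x⁻¹ * g * x) t, hK.conj_eq_inv ht h2 h1 hx]
    congr 1
    group
  · push Not at h
    rw [theta_eq_zero μ fun x hx => absurd hx (h x), theta_eq_zero μ fun x hx =>
      absurd (by simpa [mul_assoc] using K.inv_mem hx) (h x)]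

omit he in
theorem exists_hom_ne_one : ∃ μ : K →* ℂˣ, μ ≠ 1 := by
  have h1 := H6.card_hom_of_comm hK.comm'
  have h2 : 1 < Nat.card K := (Subgroup.one_lt_card_iff_ne_bot K).2 hK.ne_bot
  haveI := Finite.one_lt_card_iff_nontrivial.1 (h1 ▸ h2)
  exact exists_ne 1

end SelfCent

end H14.Sz
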