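import Mathlib
import Cfsg.Agent.Lib.Suzuki.Theta
import Cfsg.Agent.Lib.BS.Signed
import Cfsg.Agent.Lib.Deg.Basic

/-!
# The irreducible characters of the Suzuki groups
-/

set_option autoImplicit false
set_option linter.unusedSectionVars false

namespace H14.Sz

open Cfsg MulAction
open scoped ComplexConjugate

section general

variable {G : Type*} [Group G] [Fintype G]

/-- Complex conjugate of a function. -/
noncomputable def bar (χ : G → ℂ) : G → ℂ := fun g => conj (χ g)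

theorem bar_apply (χ : G → ℂ) (g : G) : bar χ g = conj (χ g) := rfl

theorem bar_irr {χ : G → ℂ} (h : IsIrrCharacter G χ) : IsIrrCharacter G (bar χ) :=
  H6.isIrrCharacter_conj h

theorem bar_bar (χ : G → ℂ) : bar (bar χ) = χ := by ext g; simp [bar]

theorem sq_le_three {v α : G → ℂ} (h3 : classInner v v = 3) (hα : classInner α α = 1) {k : ℤ}
    (hk : classInner v α = k) : k ^ 2 ≤ 3 := by
  have h := H6.classInner_self_re_nonneg (v - (k : ℂ) • α)
  have hk' : classInner α v = k := by rw [← H6.conj_classInner, hk]; simp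
  rw [H6.classInner_sub_left, H6.classInner_sub_right, H6.classInner_sub_right,
    H6.classInner_smul_left, H6.classInner_smul_right, H6.classInner_smul_left,
    H6.classInner_smul_right, h3, hα, hk, hk'] at h
  simp at h
  have : ((k ^ 2 : ℤ) : ℝ) ≤ 3 := by push_cast; nlinarith
  exact_mod_cast this

theorem inner_bar {v α : G → ℂ} (hv : bar v = v) {k : ℤ} (hk : classInner v α = k) :
    classInner v (bar α) = k := by
  have := H6.classInner_conj_conj v α
  rw [show (fun g => conj (v g)) = v from hv, ← H6.conj_classInner v α, hk] at this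
  exact this.trans (by simp)

theorem inner_sub_pair {v α : G → ℂ} (hv : bar v = v) (h3 : classInner v v = 3)
    (hα : IsIrrCharacter G α) (hne : bar α ≠ α) {k : ℤ} (hk : classInner v α = k)
    (hk2 : k ^ 2 = 1) : classInner (v - (k : ℂ) • (α + bar α)) (v - (k : ℂ) • (α + bar α)) = 1 := by
  have hk' := inner_bar hv hk
  have e1 : classInner α v = k := by rw [← H6.conj_classInner, hk]; simp
  have e2 : classInner (bar α) v = k := by rw [← H6.conj_classInner, hk']; simp
  have hk3 : (k : ℂ) ^ 2 = 1 := by exact_mod_cast hk2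
  simp only [H6.classInner_sub_left, H6.classInner_sub_right, H6.classInner_smul_left,
    H6.classInner_smul_right, H6.classInner_add_left, H6.classInner_add_right, h3, hk, hk', e1, e2,
    H6.irr_inner_self hα, H6.irr_inner_self (bar_irr hα), H6.irr_inner_ne hα (bar_irr hα) hne.symm,
    H6.irr_inner_ne (bar_irr hα) hα hne, map_intCast]
  linear_combination (-2 : ℂ) * hk3

theorem sq_eq_one_of_ne_zero {k : ℤ} (h : k ^ 2 ≤ 3) (h0 : k ≠ 0) : k ^ 2 = 1 := by
  have h1 : k ≤ 1 := by nlinarith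
  have h2 : -1 ≤ k := by nlinarith
  interval_cases k <;> simp_all

theorem sunflower {v v' α : G → ℂ} (hg : IsGeneralizedCharacter G v)
    (hg' : IsGeneralizedCharacter G v') (hv : bar v = v) (hv' : bar v' = v')
    (h3 : classInner v v = 3) (h3' : classInner v' v' = 3) (h2 : 2 ≤ (classInner v' v).re)
    (hα : IsIrrCharacter G α) (hne : bar α ≠ α) {k : ℤ} (hk : classInner v α = k) (hk0 : k ≠ 0) :
    classInner v' α = k := by
  have hk2 := sq_eq_one_of_ne_zero (sq_le_three h3 (H6.irr_inner_self hα) hk) hk0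
  have he := inner_sub_pair hv h3 hα hne hk hk2
  obtain ⟨k', hk'⟩ := H6.gen_inner_int hg' (H6.irr_isGen hα)
  obtain ⟨l, hl⟩ := H6.gen_inner_int hg' (H6.isGen_sub hg (H6.isGen_intCast_smul k
    (H6.isGen_add (H6.irr_isGen hα) (H6.irr_isGen (bar_irr hα)))))
  have h4 := sq_le_three h3' he hl
  have h5 := sq_le_three h3' (H6.irr_inner_self hα) hk'
  rw [H6.classInner_sub_right, H6.classInner_smul_right, H6.classInner_add_right, hk',
    inner_bar hv' hk', map_intCast, sub_eq_iff_eq_add] at hl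
  rw [hl] at h2
  have h6 : (2 : ℤ) ≤ l + k * (k' + k') := by
    have : ((l : ℂ) + k * (k' + k')) = ((l + k * (k' + k') : ℤ) : ℂ) := by push_cast; rfl
    rw [this, Complex.intCast_re] at h2
    exact_mod_cast h2
  rw [hk']
  congr 1
  have b1 : l ≤ 1 := by nlinarith
  have b2 : k' ≤ 1 := by nlinarith
  have b3 : -1 ≤ k' := by nlinarith
  have b4 : k ≤ 1 := by nlinarith
  have b5 : -1 ≤ k := by nlinarith
  interval_cases k <;> interval_cases k' <;> omega

theorem sq_one_le_card {e : G → ℂ} (hg : IsGeneralizedCharacter G e) (h1 : classInner e e = 1)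
    {n : ℤ} (hn : e 1 = n) : n ^ 2 ≤ Nat.card G := by
  have key : ∀ {χ : G → ℂ}, IsIrrCharacter G χ → ∀ n : ℤ, χ 1 = n → n ^ 2 ≤ Nat.card G := by
    intro χ hχ n hn
    have h := H87.deg_sq_le_card hχ
    have e := H87.irr_deg_cast hχ
    rw [hn] at e
    have : (charDegree χ : ℤ) = n := by exact_mod_cast e
    rw [← this]; exact_mod_cast h
  rcases H6.irr_or_neg_irr_of_inner_self hg h1 with h | h
  · exact key h n hn
  · have := key h (-n) (by rw [Pi.neg_apply, hn]; simp)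
    rwa [neg_sq] at this

end general

variable {G : Type*} [Group G] [Fintype G] {F : Type*} [Field F] [Fintype F] {m : ℕ} [hz : SzF F m]

local notation "θ" => th F
local notation "q" => Fintype.card F

namespace Model

variable (S : Model G F m)

/-- The permutation character on the ovoid. -/
noncomputable def pi : G → ℂ := fun g => (Nat.card (fixedBy S.Pt g) : ℂ)

/-- The Steinberg character. -/
noncomputable def St : G → ℂ := S.pi - fun _ => 1

theorem pi_char : IsCharacter G S.pi := H6.isCharacter_fixedBy S.Pt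

theorem pi_class : IsClassFunction G S.pi := H6.char_isClassFunction S.pi_char

theorem St_apply (g : G) : S.St g = S.pi g - 1 := rfl

theorem pi_eq : S.pi = (fun _ => 1) + S.St := by ext g; simp [St]

theorem St_gen : IsGeneralizedCharacter G S.St := H6.isGen_sub (H6.char_isGen S.pi_char) H6.isGen_one

theorem St_class : IsClassFunction G S.St := H6.gen_isClassFunction S.St_gen

theorem conj_pi (g : G) : conj (S.pi g) = S.pi g := map_natCast _ _

theorem conj_St (g : G) : conj (S.St g) = S.St g := by rw [St_apply, map_sub, conj_pi, map_one]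

theorem pi_one : S.pi 1 = q ^ 2 + 1 := by
  rw [pi, fixedBy_one_eq_univ, Nat.card_univ, card_Pt]; push_cast; rfl

theorem pi_U {x : G} (hx : x ∈ S.U) (h1 : x ≠ 1) : S.pi x = 1 := by
  have : fixedBy S.Pt x = {S.inf} := Set.eq_singleton_iff_unique_mem.2
    ⟨S.U_le_B hx, fun p hp => S.fix_of_mem_U hx h1 hp⟩
  rw [pi, this]; simp

theorem pi_H {x : G} (hx : x ∈ S.H) (h1 : x ≠ 1) : S.pi x = 2 := by
  have : fixedBy S.Pt x = {S.inf, S.pt 0 0} := by
    ext p
    refine ⟨fun hp => S.fix_of_mem_H hx h1 hp, ?_⟩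
    rintro (rfl | rfl)
    · exact (S.mem_H_iff.1 hx).1
    · exact (S.mem_H_iff.1 hx).2
  rw [pi, this, Nat.card_coe_set_eq, Set.ncard_pair (S.inf_ne_pt 0 0)]; simp

theorem pi_free {x : G} (hx : S.Free x) : S.pi x = 0 := by
  have : fixedBy S.Pt x = ∅ := Set.eq_empty_iff_forall_notMem.2 hx
  rw [pi, this]; simp

theorem St_one : S.St 1 = q ^ 2 := by rw [St_apply, pi_one]; ring
theorem St_U {x : G} (hx : x ∈ S.U) (h1 : x ≠ 1) : S.St x = 0 := by
  rw [St_apply, S.pi_U hx h1]; ring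
theorem St_H {x : G} (hx : x ∈ S.H) (h1 : x ≠ 1) : S.St x = 1 := by
  rw [St_apply, S.pi_H hx h1]; ring
theorem St_free {x : G} (hx : S.Free x) : S.St x = -1 := by
  rw [St_apply, S.pi_free hx]; ring

theorem inner_pi_one : classInner S.pi (fun _ => 1) = 1 := by
  rw [show S.pi = fun g => (Nat.card (fixedBy S.Pt g) : ℂ) from rfl, H6.classInner_fixedBy_one,
    Nat.cast_eq_one, Nat.card_eq_one_iff_exists]
  refine ⟨Quotient.mk'' S.inf, fun y => ?_⟩
  obtain ⟨p, rfl⟩ := Quotient.mk''_surjective y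
  exact Quotient.sound' (S.exists_smul_inf p)

theorem inner_pi_pi : classInner S.pi S.pi = 2 := by
  rw [show S.pi = fun g => (Nat.card (fixedBy S.Pt g) : ℂ) from rfl, H6.classInner_fixedBy]
  suffices Nat.card (orbitRel.Quotient G (S.Pt × S.Pt)) = 2 by rw [this]; rfl
  rw [Nat.card_eq_two_iff]
  refine ⟨Quotient.mk'' (S.inf, S.inf), Quotient.mk'' (S.inf, S.pt 0 0), fun h => ?_, ?_⟩
  · obtain ⟨g, hg⟩ := Quotient.exact' h
    have h1 := congrArg Prod.fst hg
    have h2 := congrArg Prod.snd hg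
    exact S.inf_ne_pt 0 0 (smul_left_cancel g (h1.trans h2.symm))
  · rw [Set.eq_univ_iff_forall]
    intro y
    obtain ⟨⟨p, p'⟩, rfl⟩ := Quotient.mk''_surjective y
    by_cases h : p = p'
    · subst h
      obtain ⟨g, rfl⟩ := S.exists_smul_inf p
      exact Or.inl (Quotient.sound' ⟨g, rfl⟩)
    · obtain ⟨g, rfl, rfl⟩ := S.exists_smul_pair h
      exact Or.inr (Quotient.sound' ⟨g, rfl⟩)

theorem inner_St_one : classInner S.St (fun _ => 1) = 0 := by
  rw [St, H6.classInner_sub_left, inner_pi_one, H6.classInner_one_one, sub_self]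

theorem St_irr : IsIrrCharacter G S.St := by
  refine H6.isIrr_of_gen_of_inner_self S.St_gen ?_ (by
    rw [St_one, ← Nat.cast_pow, Complex.natCast_re]; positivity)
  have h := S.inner_pi_pi
  rw [pi_eq, H6.classInner_add_left, H6.classInner_add_right, H6.classInner_add_right,
    H6.classInner_one_one, inner_St_one, H6.classInner_eq_zero_comm.1 S.inner_St_one] at h
  linear_combination h

theorem inner_St_St : classInner S.St S.St = 1 := H6.irr_inner_self S.St_irr

theorem St_ne_one : S.St ≠ fun _ => 1 := fun h => by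
  have := S.St_U (S.u_mem_U 0 1) (fun e => one_ne_zero (S.u_eq_one.1 e).2)
  rw [h] at this
  exact one_ne_zero this

/-! ### Vanishing of the induced generalised characters -/

theorem theta_of_coprime {K : Subgroup G} (μ : K →* ℂˣ) {g : G}
    (h : (orderOf g).Coprime (Nat.card K)) : theta K μ g = 0 :=
  theta_eq_zero μ fun x hx => by
    have := Subgroup.orderOf_dvd_natCard _ hx
    rw [show x⁻¹ * g * x = MulAut.conj x⁻¹ g by simp, MulEquiv.orderOf_eq] at this
    exact orderOf_eq_one_iff.1 (Nat.eq_one_of_dvd_coprimes h dvd_rfl this)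

theorem theta_U {K : Subgroup G} (hK : SelfCent K) (μ : K →* ℂˣ) {x : G} (hx : x ∈ S.U) :
    theta K μ x = 0 :=
  theta_of_coprime μ (Nat.Coprime.coprime_dvd_left
    (orderOf_dvd_of_pow_eq_one (S.pow_four_of_mem_U hx))
    (Nat.Coprime.pow_left 2 (Nat.coprime_two_left.2 hK.odd)))

variable {S} in
theorem IsTorus.theta_H {A : Subgroup G} (hA : S.IsTorus A) (μ : A →* ℂˣ) {x : G} (hx : x ∈ S.H) :
    theta A μ x = 0 :=
  theta_of_coprime μ (Nat.Coprime.coprime_dvd_left (S.orderOf_dvd_of_mem_H hx)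
    ((coprime_q_sq_add_one_sub_one F).coprime_dvd_left hA.card_dvd).symm)

theorem theta_H_free (μ : S.H →* ℂˣ) {x : G} (hx : S.Free x) : theta S.H μ x = 0 :=
  theta_of_coprime μ (Nat.Coprime.coprime_dvd_left hx.orderOf_dvd
    (by rw [card_H]; exact coprime_q_sq_add_one_sub_one F))

theorem theta_of_coprime_card {K L : Subgroup G} (h : (Nat.card L).Coprime (Nat.card K))
    (μ : K →* ℂˣ) {x : G} (hx : x ∈ L) : theta K μ x = 0 :=
  theta_of_coprime μ (Nat.Coprime.coprime_dvd_left (Subgroup.orderOf_dvd_natCard _ hx) h)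

theorem bar_theta {K : Subgroup G} (hK : SelfCent K) {j : ℕ}
    (hj : Nat.card (Subgroup.normalizer (K : Set G)) = 2 ^ (j + 1) * Nat.card K) (μ : K →* ℂˣ)
    (g : G) : conj (theta K μ g) = theta K μ g := by
  obtain ⟨t, ht, h2, h1⟩ := hK.exists_involution hj
  exact hK.conj_theta ht h2 h1 μ g

theorem inner_one_theta {K : Subgroup G} {μ : K →* ℂˣ} (hμ : μ ≠ 1) :
    classInner (fun _ => 1) (theta K μ) = 1 :=
  inner_theta_of_const hμ (H6.isClassFunction_const 1) fun _ _ _ => rfl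

/-! ### The principal series -/

/-- The principal series character attached to `μ`. -/
noncomputable def chiH (μ : S.H →* ℂˣ) : G → ℂ := S.pi - theta S.H μ

theorem chiH_apply (μ : S.H →* ℂˣ) (g : G) : S.chiH μ g = S.pi g - theta S.H μ g := rfl

theorem chiH_one (μ : S.H →* ℂˣ) : S.chiH μ 1 = q ^ 2 + 1 := by
  rw [chiH_apply, pi_one, theta_one, sub_zero]

theorem chiH_U (μ : S.H →* ℂˣ) {x : G} (hx : x ∈ S.U) (h1 : x ≠ 1) : S.chiH μ x = 1 := by
  rw [chiH_apply, S.pi_U hx h1, S.theta_U S.selfCent_H μ hx, sub_zero]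

theorem chiH_free (μ : S.H →* ℂˣ) {x : G} (hx : S.Free x) : S.chiH μ x = 0 := by
  rw [chiH_apply, S.pi_free hx, S.theta_H_free μ hx, sub_zero]

theorem norm_chiH_H (μ : S.H →* ℂˣ) {x : G} (hx : x ∈ S.H) (h1 : x ≠ 1) : ‖S.chiH μ x‖ ≤ 2 := by
  have := S.selfCent_H.norm_theta_sub_le S.card_normalizer_H' μ hx
  rw [chiH_apply, S.pi_H hx h1, norm_sub_rev]
  simpa using this

theorem conj_chiH (μ : S.H →* ℂˣ) (g : G) : conj (S.chiH μ g) = S.chiH μ g := by
  rw [chiH_apply, map_sub, conj_pi, bar_theta S.selfCent_H (j := 0) S.card_normalizer_H']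

theorem chiH_irr {μ : S.H →* ℂˣ} (hμ : μ ≠ 1) : IsIrrCharacter G (S.chiH μ) := by
  refine H6.isIrr_of_gen_of_inner_self
    (H6.isGen_sub (H6.char_isGen S.pi_char) (theta_isGen _ μ)) ?_ (by
      rw [chiH_one, ← Nat.cast_pow, ← Nat.cast_add_one, Complex.natCast_re]; positivity)
  have h1 : classInner S.pi (theta S.H μ) = 2 :=
    inner_theta_of_const hμ S.pi_class fun _ => S.pi_H
  have h2 : classInner (theta S.H μ) S.pi = 2 := by
    rw [← H6.conj_classInner, h1]; exact map_ofNat _ 2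
  rw [chiH, H6.classInner_sub_left, H6.classInner_sub_right, H6.classInner_sub_right, h1, h2,
    inner_pi_pi, S.selfCent_H.inner_theta_self S.card_normalizer_H' hμ]
  norm_num

/-- Irreducible characters that are not constituents of characters induced from `B`. -/
def Cusp (χ : G → ℂ) : Prop :=
  IsIrrCharacter G χ ∧ χ ≠ (fun _ => 1) ∧ χ ≠ S.St ∧ ∀ μ : S.H →* ℂˣ, μ ≠ 1 → χ ≠ S.chiH μ

variable {S}

theorem Cusp.inner_one {χ : G → ℂ} (h : S.Cusp χ) : classInner χ (fun _ => 1) = 0 :=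
  H6.irr_inner_ne h.1 H6.isIrrCharacter_one h.2.1

theorem Cusp.inner_St {χ : G → ℂ} (h : S.Cusp χ) : classInner χ S.St = 0 :=
  H6.irr_inner_ne h.1 S.St_irr h.2.2.1

theorem Cusp.val_H {χ : G → ℂ} (h : S.Cusp χ) {x : G} (hx : x ∈ S.H) (h1 : x ≠ 1) : χ x = 0 := by
  refine val_of_inner_theta S.selfCent_H.comm' (H6.irr_isClassFunction h.1) (fun μ hμ => ?_) hx h1
  have e : theta S.H μ = (fun _ => 1) + S.St - S.chiH μ := by rw [← pi_eq, chiH]; ring
  rw [e, H6.classInner_sub_right, H6.classInner_add_right, h.inner_one, h.inner_St,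
    H6.irr_inner_ne h.1 (S.chiH_irr hμ) (h.2.2.2 μ hμ)]
  ring

theorem cusp_of_nonreal {χ : G → ℂ} (h : IsIrrCharacter G χ) (hne : bar χ ≠ χ) : S.Cusp χ := by
  refine ⟨h, ?_, ?_, fun μ _ => ?_⟩ <;> rintro rfl <;> apply hne <;> ext g
  · exact map_one _
  · exact S.conj_St g
  · exact S.conj_chiH μ g

variable (S)

/-- The cuspidal part of the generalised character induced from a torus. -/
noncomputable def psi (A : Subgroup G) (μ : A →* ℂˣ) : G → ℂ := theta A μ - (fun _ => 1) + S.St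

theorem psi_apply (A : Subgroup G) (μ : A →* ℂˣ) (g : G) :
    S.psi A μ g = theta A μ g - 1 + S.St g := rfl

theorem psi_gen (A : Subgroup G) (μ : A →* ℂˣ) : IsGeneralizedCharacter G (S.psi A μ) :=
  H6.isGen_add (H6.isGen_sub (theta_isGen A μ) H6.isGen_one) S.St_gen

theorem psi_one (A : Subgroup G) (μ : A →* ℂˣ) : S.psi A μ 1 = q ^ 2 - 1 := by
  rw [psi_apply, theta_one, St_one]; ring

variable {S}

theorem Cusp.inner_psi {χ : G → ℂ} (h : S.Cusp χ) (A : Subgroup G) (μ : A →* ℂˣ) :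
    classInner χ (S.psi A μ) = classInner χ (theta A μ) := by
  rw [psi, H6.classInner_add_right, H6.classInner_sub_right, h.inner_one, h.inner_St]; ring

theorem IsTorus.bar_psi {A : Subgroup G} (hA : S.IsTorus A) (μ : A →* ℂˣ) :
    bar (S.psi A μ) = S.psi A μ := by
  ext g
  rw [bar_apply, psi_apply, map_add, map_sub, map_one, conj_St,
    bar_theta hA.selfCent (j := 1) hA.card_normalizer']

theorem IsTorus.psi_H {A : Subgroup G} (hA : S.IsTorus A) (μ : A →* ℂˣ) {x : G} (hx : x ∈ S.H)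
    (h1 : x ≠ 1) : S.psi A μ x = 0 := by
  rw [psi_apply, hA.theta_H μ hx, S.St_H hx h1]; ring

theorem IsTorus.psi_U {A : Subgroup G} (hA : S.IsTorus A) (μ : A →* ℂˣ) {x : G} (hx : x ∈ S.U)
    (h1 : x ≠ 1) : S.psi A μ x = -1 := by
  rw [psi_apply, S.theta_U hA.selfCent μ hx, S.St_U hx h1]; ring

theorem IsTorus.inner_psi_psi {A A' : Subgroup G} (hA : S.IsTorus A) (hA' : S.IsTorus A')
    {μ : A →* ℂˣ} {ν : A' →* ℂˣ} (hμ : μ ≠ 1) (hν : ν ≠ 1) :
    classInner (S.psi A μ) (S.psi A' ν) = classInner (theta A μ) (theta A' ν) - 2 := by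
  have e1 : classInner S.St (theta A μ) = -1 :=
    inner_theta_of_const hμ S.St_class fun a ha h1 => S.St_free (hA.free ha h1)
  have e2 : classInner S.St (theta A' ν) = -1 :=
    inner_theta_of_const hν S.St_class fun a ha h1 => S.St_free (hA'.free ha h1)
  have e3 : classInner (theta A μ) S.St = -1 := by rw [← H6.conj_classInner, e1]; simp
  have e4 : classInner (theta A μ) (fun _ => 1) = 1 := by
    rw [← H6.conj_classInner, inner_one_theta hμ]; simp
  simp only [psi, H6.classInner_add_left, H6.classInner_add_right, H6.classInner_sub_left,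
    H6.classInner_sub_right, e2, e3, e4, inner_one_theta hν, H6.classInner_one_one, inner_St_one,
    inner_St_St, H6.classInner_eq_zero_comm.1 S.inner_St_one]
  ring

theorem IsTorus.inner_psi_self {A : Subgroup G} (hA : S.IsTorus A) {μ : A →* ℂˣ} (hμ : μ ≠ 1) :
    classInner (S.psi A μ) (S.psi A μ) = 3 := by
  rw [hA.inner_psi_psi hA hμ hμ, hA.selfCent.inner_theta_self hA.card_normalizer hμ]
  norm_num

theorem IsTorus.le_inner_psi {A : Subgroup G} (hA : S.IsTorus A) {μ ν : A →* ℂˣ} (hμ : μ ≠ 1)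
    (hν : ν ≠ 1) : 2 ≤ (classInner (S.psi A μ) (S.psi A ν)).re := by
  have := hA.selfCent.le_inner_theta hA.card_normalizer hν hμ
  rw [hA.inner_psi_psi hA hμ hν, Complex.sub_re]
  norm_num at this ⊢
  linarith

theorem IsTorus.inner_psi_cross {A A' : Subgroup G} (hA : S.IsTorus A) (hA' : S.IsTorus A')
    (hc : (Nat.card A').Coprime (Nat.card A)) {μ : A →* ℂˣ} {ν : A' →* ℂˣ} (hμ : μ ≠ 1)
    (hν : ν ≠ 1) : classInner (S.psi A μ) (S.psi A' ν) = -2 := by
  rw [hA.inner_psi_psi hA' hμ hν, inner_theta_of_const hν (theta_class A μ)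
    fun a ha _ => theta_of_coprime_card hc μ ha]
  ring

theorem arith_aux {Q r E₁ E₂ : ℤ} (hQ : 8 ≤ Q) (hr : r ^ 2 = 2 * Q) (hr0 : 0 ≤ r)
    (c1 : IsCoprime (Q + r + 1) (Q - r + 1)) (c2 : IsCoprime (Q ^ 2 + 1) (Q - 1))
    (hs : E₁ + E₂ = 2 * (Q ^ 2 - 1)) (d1 : Q - 1 ∣ E₁) (d2 : Q - r + 1 ∣ E₁)
    (d3 : Q + r + 1 ∣ E₂) (hE : E₁ ^ 2 ≤ Q ^ 2 * (Q ^ 2 + 1) * (Q - 1)) :
    E₁ = (Q - 1) * (Q - r + 1) := by
  have hp : (Q + r + 1) * (Q - r + 1) = Q ^ 2 + 1 := by linear_combination -hr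
  have e1 : Q + r + 1 ∣ E₁ - (Q - 1) * (Q - r + 1) := by
    have : E₁ - (Q - 1) * (Q - r + 1) = (Q - 1) * (Q + r + 1) - E₂ := by linear_combination hs
    rw [this]; exact dvd_sub (Dvd.intro_left _ rfl) d3
  have e2 : Q - r + 1 ∣ E₁ - (Q - 1) * (Q - r + 1) := dvd_sub d2 (Dvd.intro_left _ rfl)
  have e3 : Q - 1 ∣ E₁ - (Q - 1) * (Q - r + 1) := dvd_sub d1 (Dvd.intro _ rfl)
  have e4 := c1.mul_dvd e1 e2
  rw [hp] at e4
  obtain ⟨t, ht⟩ := c2.mul_dvd e4 e3
  have hrQ : r ≤ Q := by nlinarith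
  by_contra hne
  have ht0 : t ≠ 0 := by rintro rfl; exact hne (by linear_combination ht)
  have h1 : E₁ = (Q - 1) * (Q - r + 1 + (Q ^ 2 + 1) * t) := by linear_combination ht
  have h2 : (Q * (Q - 1)) ^ 2 ≤ (Q - r + 1 + (Q ^ 2 + 1) * t) ^ 2 := by
    rcases lt_or_gt_of_ne ht0 with h | h
    · rw [← neg_sq (Q - r + 1 + (Q ^ 2 + 1) * t)]
      apply pow_le_pow_left₀ (by nlinarith)
      nlinarith
    · apply pow_le_pow_left₀ (by nlinarith)
      nlinarith
  rw [h1, mul_pow] at hE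
  have h3 : (Q - 1) ^ 2 * (Q * (Q - 1)) ^ 2 ≤ Q ^ 2 * (Q ^ 2 + 1) * (Q - 1) :=
    (mul_le_mul_of_nonneg_left h2 (sq_nonneg _)).trans hE
  have h4 : Q ^ 2 + 1 < (Q - 1) ^ 3 := by nlinarith
  have h5 : 0 < Q ^ 2 * (Q - 1) := by have : 0 < Q - 1 := by linarith
                                      positivity
  nlinarith

/-- A choice of the two classes of anisotropic tori. -/
structure ToriPair (S : Model G F m) (A₁ A₂ : Subgroup G) : Prop where
  t1 : S.IsTorus A₁
  t2 : S.IsTorus A₂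
  c1 : Nat.card A₁ = q + 2 ^ (m + 1) + 1
  c2 : Nat.card A₂ = q - 2 ^ (m + 1) + 1

variable (S) in
theorem exists_toriPair : ∃ A₁ A₂, S.ToriPair A₁ A₂ := by
  obtain ⟨A₁, A₂, h1, h2, c1, c2, -⟩ := S.exists_tori
  exact ⟨A₁, A₂, h1, h2, c1, c2⟩

namespace ToriPair

variable {A₁ A₂ : Subgroup G} (hT : S.ToriPair A₁ A₂)
include hT

theorem coprime : (Nat.card A₁).Coprime (Nat.card A₂) := by
  rw [hT.c1, hT.c2]; exact S.tori_coprime

theorem exists_inner_ne_zero {χ : G → ℂ} (h : S.Cusp χ) :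
    (∃ μ : A₁ →* ℂˣ, μ ≠ 1 ∧ classInner (S.psi A₁ μ) χ ≠ 0) ∨
      ∃ μ : A₂ →* ℂˣ, μ ≠ 1 ∧ classInner (S.psi A₂ μ) χ ≠ 0 := by
  by_contra hcon
  push Not at hcon
  have key : ∀ {A : Subgroup G}, S.IsTorus A → (∀ μ : A →* ℂˣ, μ ≠ 1 →
      classInner (S.psi A μ) χ = 0) → Nat.card A ∣ charDegree χ := by
    intro A hA h0
    obtain ⟨n, hn⟩ := dvd_of_vanish (K := A) (H6.irr_isGen h.1) fun a ha h1 =>
      val_of_inner_theta hA.selfCent.comm' (H6.irr_isClassFunction h.1) (fun μ hμ => by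
        rw [← h.inner_psi, H6.classInner_eq_zero_comm.1 (h0 μ hμ)]) ha h1
    rw [← H87.irr_deg_cast h.1] at hn
    exact Int.natCast_dvd_natCast.1 (Dvd.intro_left n (by exact_mod_cast hn.symm))
  have d1 := hT.coprime.mul_dvd_of_dvd_of_dvd (key hT.t1 hcon.1) (key hT.t2 hcon.2)
  rw [hT.c1, hT.c2, tori_prod] at d1
  have d2 : q - 1 ∣ charDegree χ := by
    obtain ⟨n, hn⟩ := dvd_of_vanish (K := S.H) (H6.irr_isGen h.1) fun a => h.val_H
    rw [← H87.irr_deg_cast h.1, card_H] at hn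
    exact Int.natCast_dvd_natCast.1 (Dvd.intro_left n (by exact_mod_cast hn.symm))
  have d3 := Nat.le_of_dvd (H87.deg_pos h.1)
    ((coprime_q_sq_add_one_sub_one F).mul_dvd_of_dvd_of_dvd d1 d2)
  have d4 := (Nat.pow_le_pow_left d3 2).trans (H87.deg_sq_le_card h.1)
  rw [S.card_G] at d4
  have h8 := eight_le_card (F := F)
  obtain ⟨n, hn⟩ : ∃ n, q = n + 1 := ⟨q - 1, by omega⟩
  rw [hn, Nat.add_sub_cancel] at d4
  have : 0 < ((n + 1) ^ 2 + 1) * n := by have : 0 < n := by omega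
                                         positivity
  nlinarith

theorem exists_sign {W : G → ℂ} (hW : IsIrrCharacter G W) (hne : bar W ≠ W) :
    ∃ k : ℤ, k ^ 2 = 1 ∧ (∀ μ : A₁ →* ℂˣ, μ ≠ 1 → classInner (S.psi A₁ μ) W = k) ∧
      ∀ μ : A₂ →* ℂˣ, μ ≠ 1 → classInner (-S.psi A₂ μ) W = k := by
  have n3 : ∀ μ : A₂ →* ℂˣ, μ ≠ 1 → classInner (-S.psi A₂ μ) (-S.psi A₂ μ) = 3 := fun μ hμ => by
    rw [H6.classInner_neg_left, H6.classInner_neg_right, neg_neg, hT.t2.inner_psi_self hμ]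
  have nb : ∀ μ : A₂ →* ℂˣ, bar (-S.psi A₂ μ) = -S.psi A₂ μ := fun μ => by
    ext g; rw [bar_apply, Pi.neg_apply, map_neg, ← bar_apply, hT.t2.bar_psi]
  rcases hT.exists_inner_ne_zero (cusp_of_nonreal hW hne) with ⟨ν, hν, h⟩ | ⟨ν, hν, h⟩
  · obtain ⟨k, hk⟩ := H6.gen_inner_int (S.psi_gen A₁ ν) (H6.irr_isGen hW)
    have hk0 : k ≠ 0 := by rintro rfl; exact h (by simpa using hk)
    refine ⟨k, sq_eq_one_of_ne_zero (sq_le_three (hT.t1.inner_psi_self hν)
      (H6.irr_inner_self hW) hk) hk0, fun μ hμ => ?_, fun μ hμ => ?_⟩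
    · exact sunflower (S.psi_gen _ _) (S.psi_gen _ _) (hT.t1.bar_psi _) (hT.t1.bar_psi _)
        (hT.t1.inner_psi_self hν) (hT.t1.inner_psi_self hμ) (hT.t1.le_inner_psi hμ hν) hW hne hk hk0
    · exact sunflower (S.psi_gen _ _) (H6.isGen_neg (S.psi_gen _ _)) (hT.t1.bar_psi _) (nb μ)
        (hT.t1.inner_psi_self hν) (n3 μ hμ) (by
          rw [H6.classInner_neg_left, hT.t2.inner_psi_cross hT.t1 hT.coprime hμ hν]
          norm_num) hW hne hk hk0
  · obtain ⟨k, hk⟩ := H6.gen_inner_int (H6.isGen_neg (S.psi_gen A₂ ν)) (H6.irr_isGen hW)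
    have hk0 : k ≠ 0 := by
      rintro rfl
      rw [H6.classInner_neg_left] at hk
      exact h (by simpa using hk)
    refine ⟨k, sq_eq_one_of_ne_zero (sq_le_three (n3 ν hν)
      (H6.irr_inner_self hW) hk) hk0, fun μ hμ => ?_, fun μ hμ => ?_⟩
    · exact sunflower (H6.isGen_neg (S.psi_gen _ _)) (S.psi_gen _ _) (nb ν) (hT.t1.bar_psi _)
        (n3 ν hν) (hT.t1.inner_psi_self hμ) (by
          rw [H6.classInner_neg_right, hT.t1.inner_psi_cross hT.t2 hT.coprime.symm hμ hν]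
          norm_num) hW hne hk hk0
    · exact sunflower (H6.isGen_neg (S.psi_gen _ _)) (H6.isGen_neg (S.psi_gen _ _)) (nb ν) (nb μ)
        (n3 ν hν) (n3 μ hμ) (by
          rw [H6.classInner_neg_left, H6.classInner_neg_right, neg_neg]
          exact hT.t2.le_inner_psi hμ hν) hW hne hk hk0

end ToriPair

end Model

end H14.Sz
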