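import Mathlib
import Cfsg.Agent.Lib.Suzuki.Chars

/-!
# The character table of the Suzuki groups
-/

set_option autoImplicit false
set_option linter.unusedSectionVars false

namespace H14.Sz

open Cfsg MulAction
open scoped ComplexConjugate

variable {G : Type*} [Group G] [Fintype G] {F : Type*} [Field F] [Fintype F] {m : ℕ} [hz : SzF F m]

local notation "θ" => th F
local notation "q" => Fintype.card F

namespace Model

variable {S : Model G F m}

variable (S) in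
include S in
theorem exists_nonreal : ∃ W, IsIrrCharacter G W ∧ bar W ≠ W := by
  by_contra h
  push Not at h
  apply S.not_isConj_inv (S.orderOf_u one_ne_zero 0)
  rw [H6.isConj_iff_irr]
  intro χ
  rw [H6.char_inv (H6.irr_isCharacter χ.2), ← bar_apply, h χ χ.2]

theorem val_of_inner_psi {W : G → ℂ} (hW : S.Cusp W) {A : Subgroup G} (hA : S.IsTorus A) {k : ℤ}
    (h : ∀ μ : A →* ℂˣ, μ ≠ 1 → classInner (S.psi A μ) W = k) {a : G} (ha : a ∈ A) (h1 : a ≠ 1) :
    W a = k :=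
  val_of_inner_theta hA.selfCent.comm' (H6.irr_isClassFunction hW.1) (fun μ hμ => by
    rw [← hW.inner_psi, ← H6.conj_classInner, h μ hμ, map_intCast]) ha h1

theorem r_cast : ((2 : ℤ) ^ (m + 1)) ^ 2 = 2 * (q : ℤ) := by exact_mod_cast r_sq (F := F)

variable (S) in
/-- The exceptional characters of the torus of order `q + r + 1`. -/
noncomputable def chi1 (W : G → ℂ) (A : Subgroup G) (μ : A →* ℂˣ) : G → ℂ :=
  S.psi A μ - (W + bar W)

variable (S) in
/-- The exceptional characters of the torus of order `q - r + 1`. -/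
noncomputable def chi2 (W : G → ℂ) (A : Subgroup G) (μ : A →* ℂˣ) : G → ℂ :=
  S.psi A μ + (W + bar W)

theorem chi1_apply (W : G → ℂ) (A : Subgroup G) (μ : A →* ℂˣ) (g : G) :
    S.chi1 W A μ g = S.psi A μ g - (W g + conj (W g)) := rfl

theorem chi2_apply (W : G → ℂ) (A : Subgroup G) (μ : A →* ℂˣ) (g : G) :
    S.chi2 W A μ g = S.psi A μ g + (W g + conj (W g)) := rfl

theorem sum_U [Fintype S.U] (f : G → ℂ) : ∑ x : S.U, f x = ∑ a : F, ∑ b : F, f (S.u a b) := by
  rw [← Fintype.sum_prod_type']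
  symm
  refine Fintype.sum_bijective (fun p : F × F => (⟨S.u p.1 p.2, S.u_mem_U _ _⟩ : S.U))
    ⟨fun p p' h => ?_, ?_⟩ _ _ fun _ => rfl
  · exact Prod.ext (S.u_inj.1 (congrArg Subtype.val h)).1 (S.u_inj.1 (congrArg Subtype.val h)).2
  · rintro ⟨_, a, b, rfl⟩; exact ⟨(a, b), rfl⟩

theorem sum_Z [Fintype S.Z] (f : G → ℂ) : ∑ x : S.Z, f x = ∑ b : F, f (S.u 0 b) := by
  symm
  refine Fintype.sum_bijective (fun p : F => (⟨S.u 0 p, S.u_mem_Z _⟩ : S.Z))
    ⟨fun p p' h => (S.u_inj.1 (congrArg Subtype.val h)).2, ?_⟩ _ _ fun _ => rfl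
  rintro ⟨_, b, rfl⟩; exact ⟨b, rfl⟩

theorem sum_eq_of_ne_zero {f : F → ℂ} {c : ℂ} (h : ∀ b, b ≠ 0 → f b = c) :
    ∑ b, f b = f 0 + ((q : ℂ) - 1) * c := by
  classical
  rw [← Finset.add_sum_erase _ _ (Finset.mem_univ 0), Finset.sum_congr rfl
    fun b hb => h b (Finset.ne_of_mem_erase hb), Finset.sum_const, Finset.card_erase_of_mem
    (Finset.mem_univ 0), Finset.card_univ, nsmul_eq_mul, Nat.cast_sub Fintype.card_pos]
  simp

theorem sum_B [Fintype S.B] {f : G → ℂ} (hf : IsClassFunction G f)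
    (h : ∀ x ∈ S.H, x ≠ 1 → f x = 0) : ∑ x : S.B, f x = ∑ a : F, ∑ b : F, f (S.u a b) := by
  classical
  haveI := Fintype.ofFinite S.U
  rw [← sum_U, ← H7.sum_extendByZero S.U, sum_eq_sum_subgroup S.B fun x hx =>
    H7.extendByZero_of_not_mem _ _ fun e => hx (S.U_le_B e)]
  refine Finset.sum_congr rfl fun x _ => ?_
  by_cases hx : (x : G) ∈ S.U
  · rw [H7.extendByZero_of_mem _ _ hx]
  · rw [H7.extendByZero_of_not_mem _ _ hx]
    obtain ⟨y, -, hy⟩ := (S.mem_U_or_conj_H x.2).resolve_left hx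
    rw [← H6.classFun_conj' hf x y]
    exact h _ (S.mem_conj_H.1 hy) (conj_ne_one fun e => hx (e ▸ S.U.one_mem))

theorem sum_u {f : G → ℂ} {a b c : ℂ} (h1 : f 1 = a) (h2 : ∀ x, x * x = 1 → x ≠ 1 → f x = b)
    (h4 : ∀ x, orderOf x = 4 → f x = c) :
    ∑ x : F, ∑ y : F, f (S.u x y) = a + ((q : ℂ) - 1) * b + ((q : ℂ) - 1) * (q * c) := by
  rw [sum_eq_of_ne_zero (c := q * c) fun x hx => by
    rw [Finset.sum_congr rfl fun y _ => h4 _ (S.orderOf_u hx y)]; simp,
    sum_eq_of_ne_zero (c := b) fun y hy => h2 _ (S.u_zero_sq y)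
      fun e => hy (S.u_eq_one.1 e).2, u_zero, h1]

theorem two_mul_norm_sq_lt {W : G → ℂ} (hW : IsIrrCharacter G W) (hne : bar W ≠ W) (g : G) :
    2 * ‖W g‖ ^ 2 + 1 ≤ Nat.card (Subgroup.centralizer ({g} : Set G)) := by
  classical
  have h := H6.column_orthogonality_self g
  simp only [Complex.mul_conj'] at h
  have h' : ∑ χ : IrrCharacter G, ‖(χ : G → ℂ) g‖ ^ 2 =
      (Nat.card (Subgroup.centralizer ({g} : Set G)) : ℝ) := by exact_mod_cast h
  have n1 : W ≠ fun _ => 1 := by rintro rfl; exact hne (by ext; simp [bar])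
  have n2 : bar W ≠ fun _ => 1 := fun e => n1 (by rw [← bar_bar W, e]; ext; simp [bar])
  rw [← h']
  refine le_trans (le_of_eq ?_) (Finset.sum_le_sum_of_subset_of_nonneg
    (s := {⟨W, hW⟩, ⟨bar W, bar_irr hW⟩, ⟨_, H6.isIrrCharacter_one⟩}) (Finset.subset_univ _)
    fun _ _ _ => by positivity)
  rw [Finset.sum_insert (by simp [Subtype.ext_iff, hne.symm, n1]),
    Finset.sum_pair (by simp [Subtype.ext_iff, n2])]
  simp [bar]
  ring

namespace ToriPair

variable {A₁ A₂ : Subgroup G} (hT : S.ToriPair A₁ A₂) {W : G → ℂ} (hW : IsIrrCharacter G W)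
  (hne : bar W ≠ W)
include hT hW hne

theorem main : W 1 = 2 ^ m * ((q : ℂ) - 1) ∧
    (∀ μ : A₁ →* ℂˣ, μ ≠ 1 → classInner (S.psi A₁ μ) W = 1) ∧
    ∀ μ : A₂ →* ℂˣ, μ ≠ 1 → classInner (S.psi A₂ μ) W = -1 := by
  obtain ⟨k, hk2, h1, h2⟩ := hT.exists_sign hW hne
  have hc := cusp_of_nonreal (S := S) hW hne
  have h2' : ∀ μ : A₂ →* ℂˣ, μ ≠ 1 → classInner (S.psi A₂ μ) W = (-k : ℤ) := fun μ hμ => by
    rw [Int.cast_neg, ← h2 μ hμ, H6.classInner_neg_left, neg_neg]
  have hk3 : (k : ℂ) ^ 2 = 1 := by exact_mod_cast hk2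
  obtain ⟨μ, hμ⟩ := hT.t1.selfCent.exists_hom_ne_one
  obtain ⟨ν, hν⟩ := hT.t2.selfCent.exists_hom_ne_one
  have gW : IsGeneralizedCharacter G ((k : ℂ) • (W + bar W)) :=
    H6.isGen_intCast_smul k (H6.isGen_add (H6.irr_isGen hW) (H6.irr_isGen (bar_irr hW)))
  have g1 := H6.isGen_sub (S.psi_gen A₁ μ) gW
  have g2 := H6.isGen_add (S.psi_gen A₂ ν) gW
  have n1 := inner_sub_pair (hT.t1.bar_psi μ) (hT.t1.inner_psi_self hμ) hW hne (h1 μ hμ) hk2
  obtain ⟨a, ha⟩ := dvd_of_vanish (K := S.H) g1 fun x hx hx1 => by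
    simp [bar_apply, hT.t1.psi_H μ hx hx1, hc.val_H hx hx1]
  obtain ⟨b, hb⟩ := dvd_of_vanish (K := A₂) g1 fun x hx hx1 => by
    simp only [Pi.sub_apply, Pi.smul_apply, Pi.add_apply, bar_apply, psi_apply,
      theta_of_coprime_card hT.coprime.symm μ hx, S.St_free (hT.t2.free hx hx1),
      val_of_inner_psi hc hT.t2 h2' hx hx1, map_intCast, smul_eq_mul]
    push_cast
    linear_combination 2 * hk3
  obtain ⟨c, hc'⟩ := dvd_of_vanish (K := A₁) g2 fun x hx hx1 => by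
    simp only [Pi.smul_apply, Pi.add_apply, bar_apply, psi_apply,
      theta_of_coprime_card hT.coprime ν hx, S.St_free (hT.t1.free hx hx1),
      val_of_inner_psi hc hT.t1 h1 hx hx1, map_intCast, smul_eq_mul]
    linear_combination 2 * hk3
  obtain ⟨d, hd0, hd⟩ := H6.irr_one_pos hW
  have h8 := eight_le_card (F := F)
  have hr := r_le_q (F := F)
  have e1 : (S.psi A₁ μ - (k : ℂ) • (W + bar W)) 1 = (((q : ℤ) ^ 2 - 1 - 2 * k * d : ℤ) : ℂ) := by
    simp only [Pi.sub_apply, Pi.smul_apply, Pi.add_apply, bar_apply, psi_one, hd, map_natCast,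
      smul_eq_mul]
    push_cast; ring
  have e2 : (S.psi A₂ ν + (k : ℂ) • (W + bar W)) 1 = (((q : ℤ) ^ 2 - 1 + 2 * k * d : ℤ) : ℂ) := by
    simp only [Pi.smul_apply, Pi.add_apply, bar_apply, psi_one, hd, map_natCast, smul_eq_mul]
    push_cast; ring
  have hE := sq_one_le_card g1 n1 e1
  rw [e1, card_H] at ha
  rw [e1, hT.c2] at hb
  rw [e2, hT.c1] at hc'
  rw [S.card_G] at hE
  have c1 := Nat.isCoprime_iff_coprime.2 S.tori_coprime
  have c2 := Nat.isCoprime_iff_coprime.2 (coprime_q_sq_add_one_sub_one F)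
  have hq1 : 1 ≤ q := by omega
  push_cast [hr, hq1] at c1 c2 hE
  have key := arith_aux (E₂ := (q : ℤ) ^ 2 - 1 + 2 * k * d) (by exact_mod_cast h8) r_cast
    (by positivity) c1 c2 (by ring) (Dvd.intro_left a (by exact_mod_cast ha.symm))
    (Dvd.intro_left b (by exact_mod_cast hb.symm)) (Dvd.intro_left c (by exact_mod_cast hc'.symm)) hE
  have h3 : k * d = 2 ^ m * ((q : ℤ) - 1) := by
    have : 2 * (k * d) = 2 * (2 ^ m * ((q : ℤ) - 1)) := by linear_combination -key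
    exact mul_left_cancel₀ two_ne_zero this
  have hk : k = 1 := by
    rcases sq_eq_one_iff.1 hk2 with h | h
    · exact h
    · exfalso
      rw [h] at h3
      have : (0 : ℤ) < 2 ^ m * ((q : ℤ) - 1) := mul_pos (by positivity) (by omega)
      omega
  subst hk
  refine ⟨?_, fun μ hμ => (h1 μ hμ).trans Int.cast_one, fun μ hμ => (h2' μ hμ).trans (by simp)⟩
  rw [hd]
  rw [one_mul] at h3
  exact_mod_cast h3

theorem W_one : W 1 = 2 ^ m * ((q : ℂ) - 1) := (hT.main hW hne).1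

theorem W_A₁ {a : G} (ha : a ∈ A₁) (h1 : a ≠ 1) : W a = 1 :=
  (val_of_inner_psi (cusp_of_nonreal hW hne) hT.t1 (k := 1)
    (fun μ hμ => ((hT.main hW hne).2.1 μ hμ).trans Int.cast_one.symm) ha h1).trans Int.cast_one

theorem W_A₂ {a : G} (ha : a ∈ A₂) (h1 : a ≠ 1) : W a = -1 :=
  (val_of_inner_psi (cusp_of_nonreal hW hne) hT.t2 (k := -1)
    (fun μ hμ => ((hT.main hW hne).2.2 μ hμ).trans (by simp)) ha h1).trans (by simp)

theorem chi1_one (μ : A₁ →* ℂˣ) : S.chi1 W A₁ μ 1 = ((q : ℂ) - 1) * (q - 2 ^ (m + 1) + 1) := by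
  rw [chi1_apply, psi_one, hT.W_one hW hne]
  simp only [map_mul, map_pow, map_sub, map_natCast, map_one, map_ofNat]
  ring

theorem chi2_one (μ : A₂ →* ℂˣ) : S.chi2 W A₂ μ 1 = ((q : ℂ) - 1) * (q + 2 ^ (m + 1) + 1) := by
  rw [chi2_apply, psi_one, hT.W_one hW hne]
  simp only [map_mul, map_pow, map_sub, map_natCast, map_one, map_ofNat]
  ring

theorem chi1_irr {μ : A₁ →* ℂˣ} (hμ : μ ≠ 1) : IsIrrCharacter G (S.chi1 W A₁ μ) := by
  have n1 := inner_sub_pair (k := 1) (hT.t1.bar_psi μ) (hT.t1.inner_psi_self hμ) hW hne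
    (((hT.main hW hne).2.1 μ hμ).trans Int.cast_one.symm) rfl
  rw [Int.cast_one, one_smul] at n1
  refine H6.isIrr_of_gen_of_inner_self (H6.isGen_sub (S.psi_gen _ _)
    (H6.isGen_add (H6.irr_isGen hW) (H6.irr_isGen (bar_irr hW)))) n1 ?_
  have h8 := eight_le_card (F := F)
  have hr := r_le_q (F := F)
  have : S.chi1 W A₁ μ 1 = ((q - 1) * (q - 2 ^ (m + 1) + 1) : ℕ) := by
    rw [hT.chi1_one hW hne]; push_cast [hr, show 1 ≤ q by omega]; rfl
  rw [this, Complex.natCast_re]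
  positivity

theorem chi2_irr {μ : A₂ →* ℂˣ} (hμ : μ ≠ 1) : IsIrrCharacter G (S.chi2 W A₂ μ) := by
  have n1 := inner_sub_pair (k := -1) (hT.t2.bar_psi μ) (hT.t2.inner_psi_self hμ) hW hne
    (((hT.main hW hne).2.2 μ hμ).trans (by simp)) rfl
  rw [Int.cast_neg, Int.cast_one, neg_smul, one_smul, sub_neg_eq_add] at n1
  refine H6.isIrr_of_gen_of_inner_self (H6.isGen_add (S.psi_gen _ _)
    (H6.isGen_add (H6.irr_isGen hW) (H6.irr_isGen (bar_irr hW)))) n1 ?_
  have h8 := eight_le_card (F := F)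
  have : S.chi2 W A₂ μ 1 = ((q - 1) * (q + 2 ^ (m + 1) + 1) : ℕ) := by
    rw [hT.chi2_one hW hne]; push_cast [show 1 ≤ q by omega]; rfl
  rw [this, Complex.natCast_re]
  positivity

/-- The list of all irreducible characters. -/
theorem irr_cases {χ : G → ℂ} (hχ : IsIrrCharacter G χ) :
    χ = (fun _ => 1) ∨ χ = S.St ∨ χ = W ∨ χ = bar W ∨ (∃ μ : S.H →* ℂˣ, μ ≠ 1 ∧ χ = S.chiH μ) ∨
      (∃ μ : A₁ →* ℂˣ, μ ≠ 1 ∧ χ = S.chi1 W A₁ μ) ∨
      ∃ μ : A₂ →* ℂˣ, μ ≠ 1 ∧ χ = S.chi2 W A₂ μ := by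
  by_contra h
  push Not at h
  obtain ⟨a1, a2, a3, a4, a5, a6, a7⟩ := h
  have e1 := H6.irr_inner_ne hW hχ a3.symm
  have e2 := H6.irr_inner_ne (bar_irr hW) hχ a4.symm
  rcases hT.exists_inner_ne_zero ⟨hχ, a1, a2, a5⟩ with ⟨μ, hμ, h⟩ | ⟨μ, hμ, h⟩
  · have e3 := H6.irr_inner_ne (hT.chi1_irr hW hne hμ) hχ (a6 μ hμ).symm
    rw [chi1, H6.classInner_sub_left, H6.classInner_add_left, e1, e2] at e3
    exact h (by simpa using e3)
  · have e3 := H6.irr_inner_ne (hT.chi2_irr hW hne hμ) hχ (a7 μ hμ).symm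
    rw [chi2, H6.classInner_add_left, H6.classInner_add_left, e1, e2] at e3
    exact h (by simpa using e3)

theorem W_involution {z : G} (h2 : z * z = 1) (h1 : z ≠ 1) : W z = -2 ^ m := by
  haveI := Fintype.ofFinite S.Z
  have hcl := H6.irr_isClassFunction hW
  have h8 := eight_le_card (F := F)
  obtain ⟨n, hn⟩ := H6.char_inner_nat (H6.isCharacter_restrict S.Z (H6.irr_isCharacter hW))
    H6.isCharacter_one
  have e1 := H6.card_mul_classInner (fun x : S.Z => W x) (fun _ => 1)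
  simp only [map_one, mul_one] at e1
  rw [hn, card_Z, sum_Z, sum_eq_of_ne_zero (c := W z) fun b hb => H6.classFun_of_isConj hcl
    (S.isConj_of_involution (S.u_zero_sq b) (fun e => hb (S.u_eq_one.1 e).2) h2 h1), u_zero,
    hT.W_one hW hne] at e1
  have hq1 : ((q - 1 : ℕ) : ℂ) = q - 1 := by push_cast [show 1 ≤ q by omega]; rfl
  have hq0 : (q : ℂ) - 1 ≠ 0 := by rw [← hq1]; exact Nat.cast_ne_zero.2 (by omega)
  have e2 : W z + 2 ^ m = ((q * n : ℕ) : ℂ) / ((q - 1 : ℕ) : ℂ) := by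
    rw [hq1, eq_div_iff hq0]; push_cast; linear_combination -e1
  obtain ⟨k, hk⟩ := H8.dvd_of_isIntegral_div (a := q * n) (b := q - 1) (by omega) (e2 ▸
    (H6.char_isIntegral (H6.irr_isCharacter hW) z).add
      ((isIntegral_natCast (R := ℤ) 2).pow m))
  have hd : q ∣ k := by
    refine Nat.Coprime.dvd_of_dvd_mul_left (m := q - 1) ?_ ⟨n, hk.symm⟩
    exact (Nat.coprime_self_sub_right (by omega)).2 (Nat.coprime_one_right _)
  obtain ⟨j, rfl⟩ := hd
  rw [hk, Nat.cast_mul, mul_div_cancel_left₀ _ (hq1 ▸ hq0)] at e2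
  have e3 : W z = (((q * j : ℕ) : ℝ) - 2 ^ m : ℝ) := by push_cast at e2 ⊢; linear_combination e2
  have e4 := two_mul_norm_sq_lt hW hne z
  rw [S.card_centralizer_of_involution h2 h1, e3, Complex.norm_real, Real.norm_eq_abs, sq_abs] at e4
  have hj : j = 0 := by
    by_contra hj
    have a1 : (1 : ℝ) ≤ j := by exact_mod_cast Nat.one_le_iff_ne_zero.2 hj
    have a2 : ((2 : ℝ) ^ (m + 1)) ^ 2 = 2 * q := by exact_mod_cast r_sq (F := F)
    have a3 : (8 : ℝ) ≤ q := by exact_mod_cast h8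
    have a4 : (0 : ℝ) < 2 ^ m := by positivity
    rw [pow_succ _ m] at a2
    push_cast at e4
    have a0 : (2 : ℝ) ≤ 2 ^ m := by
      have := hz.hm
      exact_mod_cast Nat.le_self_pow (by omega) 2
    have a5 : 4 * (2 : ℝ) ^ m ≤ q := by nlinarith
    have a6 : 3 / 4 * (q : ℝ) ≤ q * j - 2 ^ m := by nlinarith
    nlinarith
  rw [e3, hj]
  simp

theorem W_four_add {x : G} (hx : orderOf x = 4) : W x + conj (W x) = 0 := by
  haveI := Fintype.ofFinite S.B
  have hc := cusp_of_nonreal (S := S) hW hne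
  have hch := H6.isCharacter_add (H6.irr_isCharacter hW) (H6.irr_isCharacter (bar_irr hW))
  have h8 := eight_le_card (F := F)
  have h0 : classInner (W + bar W) S.pi = 0 := by
    have hc' := cusp_of_nonreal (S := S) (bar_irr hW) (by rw [bar_bar]; exact hne.symm)
    rw [pi_eq, H6.classInner_add_left, H6.classInner_add_right, H6.classInner_add_right,
      hc.inner_one, hc.inner_St, hc'.inner_one, hc'.inner_St]
    ring
  have h1 : S.pi = indFun S.B (fun _ => 1) := by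
    ext g; exact (H7.indFun_stabilizer_one S.Pt S.inf g).symm
  rw [h1, H7.classInner_indFun_right _ _ (H6.char_isClassFunction hch)] at h0
  have e1 := H6.card_mul_classInner (fun x : S.B => (W + bar W) x) (fun _ => 1)
  simp only [map_one, mul_one] at e1
  rw [h0, mul_zero, sum_B (H6.char_isClassFunction hch) fun y hy hy1 => by
      simp [bar, hc.val_H hy hy1],
    sum_u (a := 2 * (2 ^ m * ((q : ℂ) - 1))) (b := -2 * 2 ^ m) (c := W x + conj (W x))] at e1
  · have hq1 : ((q - 1 : ℕ) : ℂ) = q - 1 := by push_cast [show 1 ≤ q by omega]; rfl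
    have hq0 : (q : ℂ) - 1 ≠ 0 := by rw [← hq1]; exact Nat.cast_ne_zero.2 (by omega)
    have hq : (q : ℂ) ≠ 0 := Nat.cast_ne_zero.2 (by omega)
    have : ((q : ℂ) - 1) * (q * (W x + conj (W x))) = 0 := by linear_combination -e1
    simpa [hq0, hq] using this
  · simp only [Pi.add_apply, bar_apply, hT.W_one hW hne, map_mul, map_pow, map_sub, map_natCast,
      map_one, map_ofNat]
    ring
  · intro y h2 h1
    simp only [Pi.add_apply, bar_apply, hT.W_involution hW hne h2 h1, map_neg, map_pow, map_ofNat]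
    ring
  · intro y hy
    rcases S.isConj_or_isConj_inv hx hy with h | h
    · exact (H6.classFun_of_isConj (H6.char_isClassFunction hch) h).symm
    · have := H6.classFun_of_isConj (H6.irr_isClassFunction hW) h
      rw [H6.char_inv (H6.irr_isCharacter hW)] at this
      simp [bar, this, add_comm]

theorem W_four_norm {x : G} (hx : orderOf x = 4) : W x * conj (W x) = (2 ^ m) ^ 2 := by
  haveI := Fintype.ofFinite S.B
  have hc := cusp_of_nonreal (S := S) hW hne
  have hch := H6.irr_isCharacter hW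
  have hcl := H6.irr_isClassFunction hW
  have h8 := eight_le_card (F := F)
  obtain ⟨n, hn⟩ := H6.char_inner_nat (H6.isCharacter_restrict S.B hch)
    (H6.isCharacter_restrict S.B hch)
  have e1 := H6.card_mul_classInner (fun x : S.B => W x) (fun x : S.B => W x)
  rw [hn, card_B, sum_B (f := fun g => W g * conj (W g))
      (H6.isClassFunction_mul hcl (H6.isClassFunction_conj hcl)) fun y hy hy1 => by
      simp [hc.val_H hy hy1],
    sum_u (f := fun g => W g * conj (W g)) (a := (2 ^ m * ((q : ℂ) - 1)) ^ 2) (b := (2 ^ m) ^ 2) (c := W x * conj (W x))] at e1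
  · have hq1 : ((q - 1 : ℕ) : ℂ) = q - 1 := by push_cast [show 1 ≤ q by omega]; rfl
    have hq0 : (q : ℂ) - 1 ≠ 0 := by rw [← hq1]; exact Nat.cast_ne_zero.2 (by omega)
    have hq : (q : ℂ) ≠ 0 := Nat.cast_ne_zero.2 (by omega)
    have a2 : ((2 : ℂ) ^ (m + 1)) ^ 2 = 2 * q := by exact_mod_cast r_sq (F := F)
    rw [pow_succ _ m] at a2
    rw [Nat.cast_mul, hq1, Nat.cast_pow] at e1
    have e2 : W x * conj (W x) = q * n - (2 ^ m) ^ 2 := by
      apply mul_left_cancel₀ hq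
      apply mul_left_cancel₀ hq0
      linear_combination -e1
    have e3 : ‖W x‖ ^ 2 = q * n - (2 ^ m) ^ 2 := by
      rw [Complex.mul_conj'] at e2; exact_mod_cast e2
    have e4 := two_mul_norm_sq_lt hW hne x
    rw [S.card_centralizer_of_orderOf_four hx, e3] at e4
    have a3 : ((2 : ℝ) ^ m * 2) ^ 2 = 2 * q := by exact_mod_cast a2
    have a4 : (8 : ℝ) ≤ q := by exact_mod_cast h8
    have a5 := sq_nonneg ‖W x‖
    push_cast at e4
    have b1 : (n : ℝ) < 2 := by nlinarith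
    have b2 : (0 : ℝ) < n := by nlinarith
    have b3 : n = 1 := by
      have : n < 2 := by exact_mod_cast b1
      have : 0 < n := by exact_mod_cast b2
      omega
    rw [e2, b3]
    push_cast
    linear_combination (-1 / 2 : ℂ) * a2
  · simp only [hT.W_one hW hne, map_mul, map_pow, map_sub, map_natCast, map_one, map_ofNat]
    ring
  · intro y h2 h1
    simp only [hT.W_involution hW hne h2 h1, map_neg, map_pow, map_ofNat]
    ring
  · intro y hy
    rcases S.isConj_or_isConj_inv hx hy with h | h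
    · rw [H6.classFun_of_isConj hcl h]
    · have := H6.classFun_of_isConj hcl h
      rw [H6.char_inv hch] at this
      simp [this, mul_comm]

theorem W_four_sq {x : G} (hx : orderOf x = 4) : W x ^ 2 = -(2 ^ m) ^ 2 := by
  linear_combination W x * hT.W_four_add hW hne hx - hT.W_four_norm hW hne hx

end ToriPair

variable (S) in
include S in
/-- The degrees of the irreducible characters. -/
theorem charDegrees_eq : charDegrees G = {1, q ^ 2, 2 ^ m * (q - 1), q ^ 2 + 1,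
    (q - 1) * (q - 2 ^ (m + 1) + 1), (q - 1) * (q + 2 ^ (m + 1) + 1)} := by
  obtain ⟨A₁, A₂, hT⟩ := S.exists_toriPair
  obtain ⟨W, hW, hne⟩ := S.exists_nonreal
  have h8 := eight_le_card (F := F)
  have hr := r_le_q (F := F)
  have hq1 : 1 ≤ q := by omega
  have d1 : charDegree S.St = q ^ 2 := H87.deg_of_eq (by rw [St_one]; push_cast; rfl)
  have d2 : charDegree W = 2 ^ m * (q - 1) :=
    H87.deg_of_eq (by rw [hT.W_one hW hne]; push_cast [hq1]; rfl)
  have d3 : ∀ μ, charDegree (S.chiH μ) = q ^ 2 + 1 := fun μ =>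
    H87.deg_of_eq (by rw [chiH_one]; push_cast; rfl)
  have d4 : ∀ μ, charDegree (S.chi1 W A₁ μ) = (q - 1) * (q - 2 ^ (m + 1) + 1) := fun μ =>
    H87.deg_of_eq (by rw [hT.chi1_one hW hne]; push_cast [hq1, hr]; rfl)
  have d5 : ∀ μ, charDegree (S.chi2 W A₂ μ) = (q - 1) * (q + 2 ^ (m + 1) + 1) := fun μ =>
    H87.deg_of_eq (by rw [hT.chi2_one hW hne]; push_cast [hq1]; rfl)
  ext d
  constructor
  · rintro ⟨⟨χ, hχ⟩, rfl⟩
    simp only [Set.mem_insert_iff, Set.mem_singleton_iff]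
    rcases hT.irr_cases hW hne hχ with rfl | rfl | rfl | rfl | ⟨μ, -, rfl⟩ | ⟨μ, -, rfl⟩ |
      ⟨μ, -, rfl⟩
    · exact Or.inl H87.deg_one
    · exact Or.inr (Or.inl d1)
    · exact Or.inr (Or.inr (Or.inl d2))
    · exact Or.inr (Or.inr (Or.inl ((H87.deg_conj (H6.irr_isCharacter hW)).trans d2)))
    · exact Or.inr (Or.inr (Or.inr (Or.inl (d3 μ))))
    · exact Or.inr (Or.inr (Or.inr (Or.inr (Or.inl (d4 μ)))))
    · exact Or.inr (Or.inr (Or.inr (Or.inr (Or.inr (d5 μ)))))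
  · obtain ⟨μ₀, h0⟩ := S.selfCent_H.exists_hom_ne_one
    obtain ⟨μ₁, h1⟩ := hT.t1.selfCent.exists_hom_ne_one
    obtain ⟨μ₂, h2⟩ := hT.t2.selfCent.exists_hom_ne_one
    rintro (rfl | rfl | rfl | rfl | rfl | rfl)
    · exact ⟨⟨_, H6.isIrrCharacter_one⟩, H87.deg_one⟩
    · exact ⟨⟨_, S.St_irr⟩, d1⟩
    · exact ⟨⟨_, hW⟩, d2⟩
    · exact ⟨⟨_, S.chiH_irr h0⟩, d3 _⟩
    · exact ⟨⟨_, hT.chi1_irr hW hne h1⟩, d4 _⟩
    · exact ⟨⟨_, hT.chi2_irr hW hne h2⟩, d5 _⟩

end Model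

end H14.Sz
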